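import Groth.Agent.Lib.Grass.Plucker
import Groth.Agent.Lib.ProjSpace.Basic

/-!
# The Plücker embedding is an isomorphism when the dimensions agree
-/

set_option autoImplicit false
set_option backward.isDefEq.respectTransparency false
universe u

open TensorProduct Module CategoryTheory Limits AlgebraicGeometry MvPolynomial

namespace Groth.Agent.SBSplit25

open Groth.Agent.GrassLib

theorem injective_of_surjective_endo {P : Type*} [CommRing P] [IsNoetherianRing P] (f : P →+* P)
    (hf : Function.Surjective f) : Function.Injective f := by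
  let g : ℕ →o Ideal P :=
    ⟨fun m => RingHom.ker (f ^ m), monotone_nat_of_le_succ fun m x hx => by
      have hx' : (f ^ m) x = 0 := hx
      show (f ^ (m + 1)) x = 0
      rw [pow_succ', RingHom.mul_def, RingHom.comp_apply, hx', map_zero]⟩
  obtain ⟨m, hm⟩ := monotone_stabilizes_iff_noetherian.2 inferInstance g
  have hsurj : Function.Surjective (f ^ m) := by
    rw [RingHom.coe_pow]
    exact hf.iterate m
  refine (injective_iff_map_eq_zero f).2 fun x hx => ?_
  obtain ⟨y, rfl⟩ := hsurj x
  have hy : (f ^ (m + 1)) y = 0 := by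
    rw [pow_succ', RingHom.mul_def, RingHom.comp_apply]
    exact hx
  have h := hm (m + 1) (Nat.le_succ m)
  have hy' : y ∈ g m := by rw [h]; exact hy
  exact hy'

variable {R : Type u} [CommRing R] {M : Type u} [AddCommGroup M] [Module R M] {n k d : ℕ}
variable (b : Basis (Fin n) R M) (idx : Fin (d + 1) ≃ {S : Finset (Fin n) // S.card = k})
variable {X : Over (Spec (CommRingCat.of R))} (hX : Rep R M k X)

theorem bijective_pluckerCoords [IsNoetherianRing R] (hd : k * (n - k) = d) (j : Fin (d + 1)) :
    Function.Bijective (MvPolynomial.aeval (R := R) fun r : {r : Fin (d + 1) // r ≠ j} =>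
      (inChart_upt (R := R) (pc b idx j)).det (pc b idx r.1)) := by
  classical
  set ψ : MvPolynomial {r : Fin (d + 1) // r ≠ j} R →ₐ[R]
      ChartSet.CRing R (single (pc b idx j)) :=
    MvPolynomial.aeval fun r : {r : Fin (d + 1) // r ≠ j} =>
      (inChart_upt (R := R) (pc b idx j)).det (pc b idx r.1) with hψdef
  have hsurj : Function.Surjective ψ := by
    refine surjective_of_coords _ _ ?_
    refine range_comp_det ψ b (inChart_upt _) rfl (det_comp_mem_range b idx _ _ fun r => ?_)
    by_cases hr : r = j
    · rw [hr, InChart.det_self]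
      exact Subalgebra.one_mem _
    · exact ⟨MvPolynomial.X ⟨r, hr⟩, MvPolynomial.aeval_X _ _⟩
  refine ⟨?_, hsurj⟩
  let σ : Fin k ↪ Fin n := ⟨sel idx j, (Finset.orderEmbOfFin _ _).injective⟩
  have hcard : Nat.card (FreeVar σ) = Nat.card {r : Fin (d + 1) // r ≠ j} := by
    rw [card_freeVar, hd, Nat.card_eq_fintype_card, Fintype.card_subtype_compl]
    simp
  haveI : Finite (FreeVar σ) := inferInstance
  let eV : FreeVar σ ≃ {r : Fin (d + 1) // r ≠ j} :=
    Classical.choice (Finite.card_eq.1 hcard)
  let e : ChartSet.CRing R (single (pc b idx j)) ≃ₐ[R] MvPolynomial {r : Fin (d + 1) // r ≠ j} R :=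
    (freeChartEquiv b σ).symm.trans (MvPolynomial.renameEquiv R eV)
  have hinj := injective_of_surjective_endo (e.toAlgHom.comp ψ).toRingHom
    (e.surjective.comp hsurj)
  exact Function.Injective.of_comp (f := e) hinj

theorem isReduced_projSpace [IsDomain R] :
    IsReduced (CohB1.ProjSpace d R) := by
  haveI : ∀ i, IsReduced ((ProjSpace.cover d R).X i) := fun i =>
    inferInstanceAs (IsReduced (Spec (CommRingCat.of (MvPolynomial {j : Fin (d + 1) // j ≠ i.down} R))))
  exact IsReduced.of_openCover _ (ProjSpace.cover d R)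

theorem isIso_plucker [IsNoetherianRing R] [IsDomain R] (hd : k * (n - k) = d) :
    IsIso (hX.plucker b idx) := by
  haveI := hX.isClosedImmersion_plucker b idx
  haveI : IsReduced (CohB1.ProjSpace d R) := isReduced_projSpace
  haveI : Surjective (hX.plucker b idx) := by
    refine ⟨fun y => ?_⟩
    obtain ⟨j, q, rfl⟩ := ProjSpace.exists_mem_chart d R y
    have hb := bijective_pluckerCoords b idx hd j
    let ψ := AlgEquiv.ofBijective _ hb
    refine ⟨hX.chartInc (pc b idx j) (sp ψ.symm.toAlgHom q), ?_⟩
    rw [← Scheme.Hom.comp_apply, ← Scheme.Hom.comp_apply, hX.chartInc_plucker, pluckerChart,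
      vecMor]
    congr 1
    rw [← Category.assoc]
    have h : sp ψ.symm.toAlgHom ≫ sp ψ.toAlgHom = 𝟙 _ := by
      rw [← sp_comp, show ψ.symm.toAlgHom.comp ψ.toAlgHom = AlgHom.id R _ from AlgHom.ext fun x => ψ.symm_apply_apply x, sp_id]
    rw [show (MvPolynomial.aeval (R := R) fun r : {r : Fin (d + 1) // r ≠ j} =>
      (inChart_upt (R := R) (pc b idx j)).det (pc b idx r.1)) = ψ.toAlgHom from rfl, h,
      Category.id_comp]
  exact AlgebraicGeometry.isIso_of_isClosedImmersion_of_surjective _

end Groth.Agent.SBSplit25
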