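import Groth.Agent.Lib.SBSplit25.Morita
import Groth.Agent.Lib.SBSplit25.PluckerIso

/-!
# A split Severi–Brauer scheme is projective space
-/

set_option autoImplicit false
set_option backward.isDefEq.respectTransparency false
universe u

open TensorProduct Module CategoryTheory Limits AlgebraicGeometry

namespace Groth.Agent.SBSplit25

variable {k : Type u} [Field k] {K : Type u} [Field K] [Algebra k K]
  {Al : Type u} [Ring Al] [Algebra k Al] {n : ℕ}
  {X : Scheme.{u}} (f : X ⟶ Spec (CommRingCat.of k))

/-- Points of the base change over a `K`-algebra are points of `X`. -/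
noncomputable def bcPtsEquiv (A : Type u) [CommRing A] [Algebra K A] [Algebra k A]
    [IsScalarTower k K A] :
    (Over.mk (GrassLib.str K A) ⟶ Over.mk (BrSev.bcTo f K)) ≃ BrSev.Pts f A where
  toFun g := ⟨g.left ≫ BrSev.proj f K, by
    have h : g.left ≫ BrSev.bcTo f K = GrassLib.str K A := Over.w g
    rw [Category.assoc, show BrSev.proj f K ≫ f = BrSev.bcTo f K ≫ _ from pullback.condition,
      ← Category.assoc, h, IsScalarTower.algebraMap_eq k K A, CommRingCat.ofHom_comp, Spec.map_comp]⟩
  invFun g := Over.homMk (pullback.lift g.1 (GrassLib.str K A) (by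
    rw [g.2, IsScalarTower.algebraMap_eq k K A, CommRingCat.ofHom_comp, Spec.map_comp]))
    (pullback.lift_snd _ _ _)
  left_inv g := by
    refine Over.OverMorphism.ext ?_
    refine pullback.hom_ext (by simp) ?_
    have h : g.left ≫ BrSev.bcTo f K = GrassLib.str K A := Over.w g
    simpa using h.symm
  right_inv g := Subtype.ext (by simp)

/-- The base change of a Severi–Brauer scheme of an algebra split by `K` represents lines. -/
noncomputable def repOfSplit (str : BrSev.SBStr k Al (n * n - n) f) (hn : 0 < n)
    (ψ : K ⊗[k] Al ≃ₐ[K] Matrix (Fin n) (Fin n) K) :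
    GrassLib.Rep K (Fin n → K) (n - 1) (Over.mk (BrSev.bcTo f K)) where
  e A :=
    letI : Algebra k A := Algebra.compHom A (algebraMap k K)
    haveI : IsScalarTower k K A := IsScalarTower.of_algebraMap_eq fun _ => rfl
    (bcPtsEquiv f A).trans ((str.bij A).trans (lineEquivIdeal k K Al ψ hn).symm)
  natural A B φ g g' h := by
    letI : Algebra k A := Algebra.compHom A (algebraMap k K)
    haveI : IsScalarTower k K A := IsScalarTower.of_algebraMap_eq fun _ => rfl
    letI : Algebra k B := Algebra.compHom B (algebraMap k K)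
    haveI : IsScalarTower k K B := IsScalarTower.of_algebraMap_eq fun _ => rfl
    show (lineEquivIdeal k K Al ψ hn).symm (str.bij B (bcPtsEquiv f B g')) =
      GrassLib.gmap φ.hom ((lineEquivIdeal k K Al ψ hn).symm (str.bij A (bcPtsEquiv f A g)))
    rw [Equiv.symm_apply_eq]
    refine Subtype.ext (Module.Grassmannian.ext ?_)
    have hpt : bcPtsEquiv f B g' = BrSev.Pts.map f (φ.hom.restrictScalars k) (bcPtsEquiv f A g) := by
      refine Subtype.ext ?_
      show g'.left ≫ _ = Spec.map _ ≫ g.left ≫ _
      rw [h, Category.assoc]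
      rfl
    show _ = (idealOfLine k K Al ψ (GrassLib.gmap φ.hom _)).1.toSubmodule
    rw [idealOfLine_natural, hpt, str.natural]
    congr 2
    exact congrArg Subtype.val
      (((lineEquivIdeal k K Al ψ hn).apply_symm_apply (str.bij A (bcPtsEquiv f A g))).symm)

/-- A Severi–Brauer scheme is split by every splitting field of its algebra. -/
theorem nonempty_splitting (hX : BrSev.IsSBOf k Al (n * n - n) f) (hn : 0 < n)
    (ψ : K ⊗[k] Al ≃ₐ[K] Matrix (Fin n) (Fin n) K) :
    Nonempty (BrSev.Splitting f K (n - 1)) := by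
  classical
  obtain ⟨str⟩ := hX
  let hR := repOfSplit f str hn ψ
  have hcard : Fintype.card {S : Finset (Fin n) // S.card = n - 1} = n - 1 + 1 := by
    rw [Fintype.card_finset_len, Fintype.card_fin]
    obtain ⟨m, rfl⟩ : ∃ m, n = m + 1 := ⟨n - 1, by omega⟩
    simp
  let idx : Fin (n - 1 + 1) ≃ {S : Finset (Fin n) // S.card = n - 1} :=
    (Fintype.equivFinOfCardEq hcard).symm
  haveI := isIso_plucker (Pi.basisFun K (Fin n)) idx hR (by
    rw [show n - (n - 1) = 1 by omega, mul_one])
  exact ⟨⟨asIso (hR.plucker (Pi.basisFun K (Fin n)) idx),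
    hR.plucker_toSpec (Pi.basisFun K (Fin n)) idx⟩⟩

end Groth.Agent.SBSplit25
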