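import Groth.Agent.Lib.Grass.Stable
import Groth.Prelude.Def_BrSev2
import Mathlib.RingTheory.MatrixAlgebra
import Mathlib.RingTheory.Flat.Rank
import Mathlib.RingTheory.Flat.LocallyFree

/-!
# Left ideals of a split algebra and submodules of the free module
-/

set_option autoImplicit false
universe u

open TensorProduct Module Matrix

namespace Groth.Agent.SBSplit25

/-- Two points of a Grassmannian, one contained in the other, are equal. -/
theorem grassmannian_eq_of_le {R : Type*} [CommRing R] {M : Type*} [AddCommGroup M] [Module R M]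
    {c : ℕ} {N N' : Module.Grassmannian R M c} (h : N.toSubmodule ≤ N'.toSubmodule) : N = N' := by
  let φ : (M ⧸ N.toSubmodule) →ₗ[R] M ⧸ N'.toSubmodule := Submodule.factor h
  have hbij : Function.Bijective φ :=
    Module.bijective_of_surjective_of_rankAtStalk_eq (Submodule.factor_surjective h) fun m _ => by
      rw [N.rankAtStalk_eq, N'.rankAtStalk_eq]
  refine Module.Grassmannian.ext (le_antisymm h fun x hx => ?_)
  rw [← Submodule.Quotient.mk_eq_zero]
  refine hbij.1 ?_
  rw [map_zero]
  exact (Submodule.Quotient.mk_eq_zero _).2 hx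

section

variable (k : Type u) [Field k] (K : Type u) [Field K] [Algebra k K]
  (Al : Type u) [Ring Al] [Algebra k Al] {n : ℕ}
  (ψ : K ⊗[k] Al ≃ₐ[K] Matrix (Fin n) (Fin n) K)
variable (A : Type u) [CommRing A] [Algebra K A] [Algebra k A] [IsScalarTower k K A]

/-- The composite splitting over a `K`-algebra, as a homomorphism. -/
noncomputable def eMatHom : A ⊗[k] Al →ₐ[A] Matrix (Fin n) (Fin n) A :=
  Algebra.TensorProduct.lift (Algebra.ofId A _)
    (((Algebra.ofId K A).mapMatrix.restrictScalars k).comp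
      ((ψ.toAlgHom.restrictScalars k).comp Algebra.TensorProduct.includeRight))
    fun a x => Algebra.commutes a _

theorem eMatHom_tmul (a : A) (x : Al) :
    eMatHom k K Al ψ A (a ⊗ₜ[k] x) = a • (ψ (1 ⊗ₜ[k] x)).map (algebraMap K A) := by
  simp [eMatHom, Algebra.smul_def, Algebra.ofId_apply, AlgHom.mapMatrix_apply]
  rfl

theorem bijective_eMatHom : Function.Bijective (eMatHom k K Al ψ A) := by
  let e₁ : A ⊗[K] (K ⊗[k] Al) ≃ₗ[A] A ⊗[k] Al :=
    TensorProduct.AlgebraTensorModule.cancelBaseChange k K A A Al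
  let e₂ : A ⊗[K] (K ⊗[k] Al) ≃ₗ[K] A ⊗[K] Matrix (Fin n) (Fin n) K :=
    TensorProduct.congr (LinearEquiv.refl K A) ψ.toLinearEquiv
  have key : ∀ z, eMatHom k K Al ψ A (e₁ z) = (matrixEquivTensor (Fin n) K A).symm (e₂ z) := by
    intro z
    induction z using TensorProduct.induction_on with
    | zero => simp
    | tmul a w =>
      induction w using TensorProduct.induction_on with
      | zero => simp
      | tmul c x =>
        have hcx : ψ (c ⊗ₜ[k] x) = c • ψ (1 ⊗ₜ[k] x) := by
          rw [← map_smul, TensorProduct.smul_tmul', smul_eq_mul, mul_one]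
        have h₁ : e₁ (a ⊗ₜ[K] (c ⊗ₜ[k] x)) = (c • a) ⊗ₜ[k] x := by simp [e₁]
        rw [h₁, eMatHom_tmul]
        simp only [e₂, TensorProduct.congr_tmul, LinearEquiv.refl_apply,
          AlgEquiv.toLinearEquiv_apply, matrixEquivTensor_apply_symm, hcx]
        ext i j
        simp [Algebra.smul_def, mul_comm, mul_assoc]
        simp [Matrix.algebraMap_eq_diagonal, Matrix.diagonal_mul]
      | add p q hp hq => simp only [TensorProduct.tmul_add, map_add, hp, hq]
    | add p q hp hq => simp only [map_add, hp, hq]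
  have h : Function.Bijective (fun z => eMatHom k K Al ψ A (e₁ z)) := by
    rw [funext key]
    exact (matrixEquivTensor (Fin n) K A).symm.bijective.comp e₂.bijective
  exact (Function.Bijective.of_comp_iff _ e₁.bijective).1 h

/-- The composite splitting over a `K`-algebra. -/
noncomputable def eMat : A ⊗[k] Al ≃ₐ[A] Matrix (Fin n) (Fin n) A :=
  AlgEquiv.ofBijective _ (bijective_eMatHom k K Al ψ A)

theorem eMat_tmul (a : A) (x : Al) :
    eMat k K Al ψ A (a ⊗ₜ[k] x) = a • (ψ (1 ⊗ₜ[k] x)).map (algebraMap K A) :=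
  eMatHom_tmul k K Al ψ A a x

variable (B : Type u) [CommRing B] [Algebra K B] [Algebra k B] [IsScalarTower k K B]

theorem eMat_tm (φ : A →ₐ[K] B) (v : A ⊗[k] Al) :
    eMat k K Al ψ B (GrassLib.tm (φ.restrictScalars k) v) = (eMat k K Al ψ A v).map φ := by
  induction v using TensorProduct.induction_on with
  | zero => ext i j; simp
  | tmul a x =>
    rw [LinearMap.rTensor_tmul, eMat_tmul, eMat_tmul]
    ext i j
    simp
  | add p q hp hq =>
    rw [map_add, map_add, hp, hq, map_add]
    ext i j
    simp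

/-- Coordinates on the free module. -/
noncomputable abbrev coord : A ⊗[K] (Fin n → K) ≃ₗ[A] (Fin n → A) :=
  TensorProduct.piScalarRight K A A (Fin n)

theorem coord_tm (φ : A →ₐ[K] B) (v : A ⊗[K] (Fin n → K)) :
    coord K B (GrassLib.tm φ v) = fun i => φ (coord K A v i) := by
  induction v using TensorProduct.induction_on with
  | zero => ext i; simp
  | tmul a x => ext i; simp [map_smul]
  | add p q hp hq => rw [map_add, map_add, hp, hq]; ext i; simp

/-- The `i`-th row. -/
noncomputable def rowMap (i : Fin n) : A ⊗[k] Al →ₗ[A] (A ⊗[K] (Fin n → K)) :=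
  (coord K A).symm.toLinearMap.comp
    ((LinearMap.proj (R := A) i).comp (eMat k K Al ψ A).toLinearMap)

theorem coord_rowMap (i : Fin n) (x : A ⊗[k] Al) :
    coord K A (rowMap k K Al ψ A i x) = eMat k K Al ψ A x i := by
  simp only [rowMap, LinearMap.comp_apply, LinearEquiv.coe_coe]
  rw [LinearEquiv.apply_symm_apply]
  rfl

theorem rowMap_tm (φ : A →ₐ[K] B) (i : Fin n) (x : A ⊗[k] Al) :
    rowMap k K Al ψ B i (GrassLib.tm (φ.restrictScalars k) x) =
      GrassLib.tm φ (rowMap k K Al ψ A i x) := by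
  refine (coord K B).injective ?_
  rw [coord_rowMap, eMat_tm, coord_tm, coord_rowMap]
  rfl

/-- All rows at once. -/
noncomputable def rowsQuot (L : Submodule A (A ⊗[K] (Fin n → K))) :
    A ⊗[k] Al →ₗ[A] (Fin n → (A ⊗[K] (Fin n → K)) ⧸ L) :=
  LinearMap.pi fun i => L.mkQ.comp (rowMap k K Al ψ A i)

theorem mem_ker_rowsQuot (L : Submodule A (A ⊗[K] (Fin n → K))) (x : A ⊗[k] Al) :
    x ∈ LinearMap.ker (rowsQuot k K Al ψ A L) ↔ ∀ i, rowMap k K Al ψ A i x ∈ L := by
  simp [rowsQuot, funext_iff]

/-- The element with prescribed rows. -/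
noncomputable def ofRows (m : Fin n → A ⊗[K] (Fin n → K)) : A ⊗[k] Al :=
  (eMat k K Al ψ A).symm (Matrix.of fun i => coord K A (m i))

theorem rowMap_ofRows (m : Fin n → A ⊗[K] (Fin n → K)) (i : Fin n) :
    rowMap k K Al ψ A i (ofRows k K Al ψ A m) = m i := by
  refine (coord K A).injective ?_
  rw [coord_rowMap, ofRows, AlgEquiv.apply_symm_apply]
  rfl

theorem ext_rows {x y : A ⊗[k] Al} (h : ∀ i, rowMap k K Al ψ A i x = rowMap k K Al ψ A i y) :
    x = y := by
  refine (eMat k K Al ψ A).injective ?_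
  ext i j
  have := congrArg (fun v => coord K A v j) (h i)
  simpa only [coord_rowMap] using this

theorem rowsQuot_surjective (L : Submodule A (A ⊗[K] (Fin n → K))) :
    Function.Surjective (rowsQuot k K Al ψ A L) := by
  intro q
  choose m hm using fun i => Submodule.mkQ_surjective L (q i)
  refine ⟨ofRows k K Al ψ A m, ?_⟩
  ext i
  simp [rowsQuot, rowMap_ofRows, ← hm i]

theorem rowMap_mul (a x : A ⊗[k] Al) (i : Fin n) :
    rowMap k K Al ψ A i (a * x) =
      ∑ j, (eMat k K Al ψ A a i j) • rowMap k K Al ψ A j x := by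
  refine (coord K A).injective ?_
  ext l
  simp only [map_sum, map_smul, coord_rowMap, Finset.sum_apply, Pi.smul_apply, smul_eq_mul,
    map_mul, Matrix.mul_apply]

variable {A B}

theorem projective_pi (L : GrassLib.Pt K (Fin n → K) (n - 1) A) :
    Module.Projective A (Fin n → (A ⊗[K] (Fin n → K)) ⧸ L.toSubmodule) := by
  classical
  exact Module.Projective.of_equiv
    (DirectSum.linearEquivFunOnFintype A (Fin n) fun _ => (A ⊗[K] (Fin n → K)) ⧸ L.toSubmodule)

/-- The left ideal of elements with all rows in a given submodule. -/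
noncomputable def idealOfLine (L : GrassLib.Pt K (Fin n → K) (n - 1) A) :
    BrSev.SBSet k Al (n * n - n) A :=
  ⟨{ toSubmodule := LinearMap.ker (rowsQuot k K Al ψ A L.toSubmodule)
     finite_quotient := Module.Finite.equiv
      ((rowsQuot k K Al ψ A L.toSubmodule).quotKerEquivOfSurjective
        (rowsQuot_surjective k K Al ψ A _)).symm
     projective_quotient := haveI := projective_pi K L; Module.Projective.of_equiv
      ((rowsQuot k K Al ψ A L.toSubmodule).quotKerEquivOfSurjective
        (rowsQuot_surjective k K Al ψ A _)).symm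
     rankAtStalk_eq := fun p => by
      rw [rankAtStalk_eq_of_equiv ((rowsQuot k K Al ψ A L.toSubmodule).quotKerEquivOfSurjective
        (rowsQuot_surjective k K Al ψ A _)), rankAtStalk_pi,
        finsum_eq_sum_of_fintype]
      simp [L.rankAtStalk_eq, Nat.mul_sub, mul_comm] },
    fun a x hx => by
      simp only [mem_ker_rowsQuot] at hx ⊢
      intro i
      rw [rowMap_mul]
      exact Submodule.sum_mem _ fun j _ => Submodule.smul_mem _ _ (hx j)⟩

theorem mem_idealOfLine (L : GrassLib.Pt K (Fin n → K) (n - 1) A) (x : A ⊗[k] Al) :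
    x ∈ (idealOfLine k K Al ψ L).1.toSubmodule ↔
      ∀ i, rowMap k K Al ψ A i x ∈ L.toSubmodule :=
  mem_ker_rowsQuot k K Al ψ A _ x

theorem idealOfLine_natural (φ : A →ₐ[K] B) (L : GrassLib.Pt K (Fin n → K) (n - 1) A) :
    (idealOfLine k K Al ψ (GrassLib.gmap φ L)).1.toSubmodule =
      (Module.Grassmannian.map (φ.restrictScalars k) (idealOfLine k K Al ψ L).1).toSubmodule := by
  refine (congrArg Module.Grassmannian.toSubmodule (grassmannian_eq_of_le
    (N := GrassLib.gmap (φ.restrictScalars k) (idealOfLine k K Al ψ L).1) ?_)).symm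
  rw [GrassLib.gmap_eq_span, Submodule.span_le]
  rintro _ ⟨x, hx, rfl⟩
  refine (mem_idealOfLine k K Al ψ _ _).2 fun i => ?_
  rw [rowMap_tm]
  exact GrassLib.tm_mem_gmap φ ((mem_idealOfLine k K Al ψ L x).1 hx i)

theorem ofRows_single_mem_iff (hn : 0 < n) (L : GrassLib.Pt K (Fin n → K) (n - 1) A)
    (v : A ⊗[K] (Fin n → K)) :
    ofRows k K Al ψ A (Pi.single ⟨0, hn⟩ v) ∈ (idealOfLine k K Al ψ L).1.toSubmodule ↔
      v ∈ L.toSubmodule := by
  simp only [mem_idealOfLine, rowMap_ofRows]
  refine ⟨fun h => by simpa using h ⟨0, hn⟩, fun h i => ?_⟩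
  by_cases hi : i = ⟨0, hn⟩
  · subst hi; simpa using h
  · simp [hi]

theorem idealOfLine_bijective (hn : 0 < n) :
    Function.Bijective (idealOfLine (A := A) k K Al ψ) := by
  classical
  refine ⟨fun L L' h => Module.Grassmannian.ext (Submodule.ext fun v => ?_), fun N => ?_⟩
  · rw [← ofRows_single_mem_iff k K Al ψ hn L, h, ofRows_single_mem_iff k K Al ψ hn L']
  let i₀ : Fin n := ⟨0, hn⟩
  let ι : A ⊗[K] (Fin n → K) →ₗ[A] A ⊗[k] Al :=
    { toFun := fun v => ofRows k K Al ψ A (Pi.single i₀ v)
      map_add' := fun v w => ext_rows k K Al ψ A fun i => by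
        simp [rowMap_ofRows, Pi.single_add, map_add]
      map_smul' := fun a v => ext_rows k K Al ψ A fun i => by
        simp [rowMap_ofRows, Pi.single_smul, map_smul] }
  let L : Submodule A (A ⊗[K] (Fin n → K)) := N.1.toSubmodule.comap ι
  have hmem : ∀ x, x ∈ N.1.toSubmodule ↔ ∀ i, rowMap k K Al ψ A i x ∈ L := by
    intro x
    constructor
    · intro hx i
      show ι (rowMap k K Al ψ A i x) ∈ N.1.toSubmodule
      have h := N.2 ((eMat k K Al ψ A).symm (Matrix.single i₀ i (1 : A))) x hx
      convert h using 1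
      refine ext_rows k K Al ψ A fun l => ?_
      rw [rowMap_mul, AlgEquiv.apply_symm_apply]
      show rowMap k K Al ψ A l (ofRows k K Al ψ A _) = _
      rw [rowMap_ofRows]
      by_cases hl : l = i₀
      · subst hl
        simp [Matrix.single_apply]
      · simp [Matrix.single_apply, hl, Ne.symm hl]
    · intro hx
      have hsum : x = ∑ i, (eMat k K Al ψ A).symm (Matrix.single i i₀ (1 : A)) *
          ι (rowMap k K Al ψ A i x) := by
        refine ext_rows k K Al ψ A fun l => ?_
        rw [map_sum]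
        simp only [rowMap_mul, AlgEquiv.apply_symm_apply]
        show _ = ∑ i, ∑ j, _ • rowMap k K Al ψ A j (ofRows k K Al ψ A _)
        simp [rowMap_ofRows, Matrix.single_apply, Pi.single_apply]
      rw [hsum]
      exact Submodule.sum_mem _ fun i _ => N.2 _ _ (hx i)
  have hker : LinearMap.ker (rowsQuot k K Al ψ A L) = N.1.toSubmodule :=
    Submodule.ext fun x => (mem_ker_rowsQuot k K Al ψ A L x).trans (hmem x).symm
  let e : ((A ⊗[k] Al) ⧸ N.1.toSubmodule) ≃ₗ[A] (Fin n → (A ⊗[K] (Fin n → K)) ⧸ L) :=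
    (Submodule.quotEquivOfEq _ _ hker.symm).trans
      ((rowsQuot k K Al ψ A L).quotKerEquivOfSurjective (rowsQuot_surjective k K Al ψ A _))
  haveI : Module.Finite A ((A ⊗[K] (Fin n → K)) ⧸ L) :=
    Module.Finite.of_surjective _ L.mkQ_surjective
  haveI : Module.Projective A (Fin n → (A ⊗[K] (Fin n → K)) ⧸ L) :=
    Module.Projective.of_equiv e
  haveI hproj : Module.Projective A ((A ⊗[K] (Fin n → K)) ⧸ L) :=
    Module.Projective.of_split (LinearMap.single A (fun _ : Fin n => (A ⊗[K] (Fin n → K)) ⧸ L) i₀) (LinearMap.proj i₀) (by ext; simp)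
  refine ⟨⟨L, inferInstance, hproj, fun p => ?_⟩, ?_⟩
  · have h := congrFun (rankAtStalk_eq_of_equiv e) p
    rw [N.1.rankAtStalk_eq, rankAtStalk_pi, finsum_eq_sum_of_fintype] at h
    simp only [Finset.sum_const, Finset.card_univ, Fintype.card_fin, smul_eq_mul] at h
    refine Nat.eq_of_mul_eq_mul_left hn (h.symm.trans ?_)
    rw [Nat.mul_sub, mul_one]
  · exact Subtype.ext (Module.Grassmannian.ext hker)

/-- Lines in the free module are left ideals of the split algebra. -/
noncomputable def lineEquivIdeal (hn : 0 < n) :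
    GrassLib.Pt K (Fin n → K) (n - 1) A ≃ BrSev.SBSet k Al (n * n - n) A :=
  Equiv.ofBijective _ (idealOfLine_bijective k K Al ψ hn)

end

end Groth.Agent.SBSplit25
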